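import Mathlib

/-! One-dimensional integral schemes: stalk dimensions, dominance of nonconstant maps, flatness over normal curves. -/

set_option autoImplicit false

universe u

open CategoryTheory AlgebraicGeometry TopologicalSpace

namespace Groth.Agent.CurvesLib24

variable {X Y : Scheme.{u}}

theorem stalk_dim_le_topologicalKrullDim (x : X) :
    ringKrullDim (X.presheaf.stalk x) ≤ topologicalKrullDim X := by
  rw [ringKrullDim_stalk_eq_coheight]
  refine (Order.coheight_le_krullDim x).trans ?_
  let g : X → IrreducibleCloseds X := fun y ↦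
    ⟨closure {y}, isIrreducible_singleton.closure, isClosed_closure⟩
  refine Order.krullDim_le_of_strictMono g fun a b hab ↦ ?_
  have h : b ⤳ a := le_of_lt hab
  refine lt_of_le_of_ne (SetLike.coe_subset_coe.mp (h.closure_subset)) fun e ↦ hab.ne ?_
  have he : closure ({a} : Set X) = closure {b} := congrArg (fun Z : IrreducibleCloseds X ↦ (Z : Set X)) e
  exact (inseparable_iff_closure_eq.mpr he).eq

/-- A curve has only closed points and a generic point. -/
theorem eq_genericPoint_or_isClosed [IsIntegral X] (h1 : topologicalKrullDim X ≤ 1) (x : X) :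
    x = genericPoint X ∨ IsClosed ({x} : Set X) := by
  by_contra h
  push Not at h
  obtain ⟨hne, hncl⟩ := h
  obtain ⟨y, hy, hyx⟩ : ∃ y ∈ closure ({x} : Set X), y ≠ x := by
    by_contra h'
    push Not at h'
    exact hncl (closure_subset_iff_isClosed.mp fun y hy ↦ h' y hy)
  have hxy : x ⤳ y := specializes_iff_mem_closure.mpr hy
  have h1' : y < x := lt_of_le_not_ge hxy fun h'' ↦ hyx (Specializes.antisymm h'' hxy).eq
  have h2' : x < genericPoint X :=
    lt_of_le_not_ge (genericPoint_specializes x) fun h'' ↦ hne (Specializes.antisymm h'' (genericPoint_specializes x)).eq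
  have h3 := Order.coheight_add_one_le h2'
  have h4 := Order.coheight_add_one_le h1'
  have h5 := (stalk_dim_le_topologicalKrullDim y).trans h1
  rw [ringKrullDim_stalk_eq_coheight] at h5
  have h5' : Order.coheight y ≤ ((1 : ℕ) : ℕ∞) := by exact_mod_cast h5
  have h6 : (2 : ℕ∞) ≤ Order.coheight y := by
    calc (2 : ℕ∞) = 0 + 1 + 1 := by norm_num
      _ ≤ Order.coheight (genericPoint X) + 1 + 1 := by gcongr; exact zero_le
      _ ≤ Order.coheight x + 1 := by gcongr
      _ ≤ Order.coheight y := h4
  exact absurd (h6.trans h5') (by norm_num)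

/-- A nonconstant map to a curve is dominant. -/
theorem map_genericPoint_of_nontrivial [IsIntegral X] [IsIntegral Y] (h1 : topologicalKrullDim Y ≤ 1)
    (f : X ⟶ Y) (hnc : (Set.range f.base).Nontrivial) : f.base (genericPoint X) = genericPoint Y := by
  refine (eq_genericPoint_or_isClosed h1 _).resolve_right fun h ↦ ?_
  obtain ⟨a, ⟨a', rfl⟩, b, ⟨b', rfl⟩, hab⟩ := hnc
  have key : ∀ z : X, f.base z = f.base (genericPoint X) := fun z ↦
    ((genericPoint_specializes z).map f.base.hom.2).mem_closed h rfl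
  exact hab ((key a').trans (key b').symm)

theorem isDominant_of_nontrivial [IsIntegral X] [IsIntegral Y] (h1 : topologicalKrullDim Y ≤ 1)
    (f : X ⟶ Y) (hnc : (Set.range f.base).Nontrivial) : IsDominant f := by
  refine ⟨dense_iff_closure_eq.mpr (Set.eq_univ_of_univ_subset ?_)⟩
  rw [← genericPoint_closure, ← map_genericPoint_of_nontrivial h1 f hnc]
  exact closure_mono (Set.singleton_subset_iff.mpr ⟨_, rfl⟩)

/-- Stalk maps of a dominant morphism of integral schemes are injective. -/
theorem stalkMap_injective [IsIntegral X] [IsIntegral Y] (f : X ⟶ Y) [IsDominant f] (x : X) :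
    Function.Injective (f.stalkMap x).hom := by
  rw [injective_iff_map_eq_zero]
  intro a ha
  obtain ⟨V, hxV, s, rfl⟩ := Y.presheaf.exists_germ_eq a
  rw [Scheme.Hom.germ_stalkMap_apply] at ha
  haveI : Nonempty (f ⁻¹ᵁ V) := ⟨⟨x, hxV⟩⟩
  have hs : (f.app V).hom s = 0 := germ_injective_of_isIntegral X x hxV (by rw [ha, map_zero])
  by_contra hne
  have hs0 : s ≠ 0 := fun h ↦ hne (by rw [h, map_zero])
  have hb : Y.basicOpen s ≠ ⊥ := fun h ↦ hs0 ((basicOpen_eq_bot_iff s).mp h)
  have hne' : ((Y.basicOpen s : Y.Opens) : Set Y).Nonempty := by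
    rw [Set.nonempty_iff_ne_empty]
    exact fun h ↦ hb (SetLike.coe_injective h)
  obtain ⟨w, hw⟩ := f.denseRange.exists_mem_open (Y.basicOpen s).2 hne'
  have : w ∈ f ⁻¹ᵁ Y.basicOpen s := hw
  rw [Scheme.preimage_basicOpen, hs, Scheme.basicOpen_zero] at this
  exact this

/-- Normal integral curve: every stalk is a principal ideal domain. -/
theorem isPrincipalIdealRing_stalk [IsLocallyNoetherian Y] [IsIntegral Y] (h1 : topologicalKrullDim Y ≤ 1)
    (y : Y) (hN : IsIntegrallyClosed (Y.presheaf.stalk y)) : IsPrincipalIdealRing (Y.presheaf.stalk y) := by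
  haveI := hN
  haveI : Ring.KrullDimLE 1 (Y.presheaf.stalk y) :=
    Ring.krullDimLE_iff.mpr (by exact_mod_cast (stalk_dim_le_topologicalKrullDim y).trans h1)
  haveI : Ring.DimensionLEOne (Y.presheaf.stalk y) := ⟨fun {p} hp hpp ↦ hpp.isMaximal_of_ne_bot hp⟩
  exact ((tfae_of_isNoetherianRing_of_isLocalRing_of_isDomain (Y.presheaf.stalk y)).out 0 3 rfl rfl).mpr
    ⟨hN, fun P hP hP' ↦ IsLocalRing.eq_maximalIdeal (hP'.isMaximal_of_ne_bot hP)⟩

end Groth.Agent.CurvesLib24

namespace Groth.Agent.CurvesLib24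

variable {X Y : Scheme.{u}}

/-- Dominant proper maps of integral curves have finite fibres. -/
theorem finite_preimage_singleton [IsIntegral X] [IsIntegral Y] [CompactSpace X] [IsLocallyNoetherian X]
    (h1X : topologicalKrullDim X ≤ 1) (h1Y : topologicalKrullDim Y ≤ 1) (f : X ⟶ Y) [IsProper f]
    (hY : ¬ IsClosed ({genericPoint Y} : Set Y))
    (hgen : f.base (genericPoint X) = genericPoint Y) (y : Y) : (f.base ⁻¹' {y}).Finite := by
  by_cases hy : y = genericPoint Y
  · refine (Set.finite_singleton (genericPoint X)).subset fun x hx ↦ ?_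
    refine (eq_genericPoint_or_isClosed h1X x).resolve_right fun hc ↦ hY ?_
    have := f.isClosedMap _ hc
    rw [Set.image_singleton] at this
    rwa [show f.base x = genericPoint Y from hx.trans hy] at this
  · have hc : IsClosed (f.base ⁻¹' {y}) :=
      ((eq_genericPoint_or_isClosed h1Y y).resolve_left hy).preimage f.base.hom.2
    haveI : IsNoetherian X := {}
    obtain ⟨S, hS, hSc, hSi, he⟩ := NoetherianSpace.exists_finite_set_isClosed_irreducible hc
    rw [he]
    refine Set.Finite.sUnion hS fun Z hZ ↦ ?_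
    obtain ⟨hZc, hZi⟩ := (⟨hSc Z hZ, hSi Z hZ⟩ : IsClosed Z ∧ IsIrreducible Z)
    obtain ⟨ξ, hξ⟩ := QuasiSober.sober hZi hZc
    have hξm : ξ ∈ Z := hξ.mem
    have hξne : ξ ≠ genericPoint X := fun h ↦ by
      have hmem : ξ ∈ f.base ⁻¹' {y} := he ▸ Set.mem_sUnion.mpr ⟨Z, hZ, hξm⟩
      rw [h] at hmem
      exact hy ((show f.base (genericPoint X) = y from hmem).symm.trans hgen)
    have : IsClosed ({ξ} : Set X) := (eq_genericPoint_or_isClosed h1X ξ).resolve_left hξne
    rw [← hξ.def, this.closure_eq]
    exact Set.finite_singleton ξ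

theorem not_isClosed_genericPoint [IsIntegral X] (h : topologicalKrullDim X = 1) :
    ¬ IsClosed ({genericPoint X} : Set X) := fun hc ↦ by
  have hsub : ∀ x : X, x = genericPoint X := fun x ↦
    ((genericPoint_specializes x).mem_closed hc rfl : x ∈ ({genericPoint X} : Set X))
  haveI : Subsingleton X := ⟨fun a b ↦ (hsub a).trans (hsub b).symm⟩
  haveI : Subsingleton (IrreducibleCloseds X) := ⟨fun a b ↦ SetLike.ext' <|
    (Set.univ_subset_iff.mp fun z _ ↦ by obtain ⟨w, hw⟩ := a.isIrreducible.nonempty; rwa [Subsingleton.elim z w]).trans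
    (Set.univ_subset_iff.mp fun z _ ↦ by obtain ⟨w, hw⟩ := b.isIrreducible.nonempty; rwa [Subsingleton.elim z w]).symm⟩
  have : topologicalKrullDim X ≤ 0 := Order.krullDim_nonpos_of_subsingleton
  rw [h] at this
  norm_num at this

end Groth.Agent.CurvesLib24
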